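import Cfsg.Agent.Lib.Basic
import Cfsg.Agent.Lib.Coprime
import Cfsg.Agent.Lib.SylowCount

/-!
Fewer than `p²` Sylow `p`-subgroups: the factor over a normal `p'`-subgroup is a prime power.

Blueprint: `blueprint/S4339.md`.
-/

set_option autoImplicit false
set_option linter.unusedSectionVars false
set_option linter.style.haveILetI false

universe u

namespace CfsgLib.FewSylow

open Cfsg Subgroup

variable {p : ℕ} [Fact p.Prime]

theorem eq_one_or_succ_le {a : ℕ} (ha : 0 < a) (h : a ≡ 1 [MOD p]) : a = 1 ∨ p + 1 ≤ a := by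
  rcases Nat.lt_or_ge 1 a with h1 | h1
  · right
    have := Nat.le_of_dvd (by omega) ((Nat.modEq_iff_dvd' h1.le).mp h.symm)
    omega
  · left; omega

theorem eq_one_or_eq_one {a b : ℕ} (h0 : 0 < a * b) (h : a * b < p ^ 2) (ha : a ≡ 1 [MOD p])
    (hab : a * b ≡ 1 [MOD p]) : a = 1 ∨ b = 1 := by
  have hb : b ≡ 1 [MOD p] := by
    have h2 : a * b ≡ 1 * b [MOD p] := ha.mul_right b
    rw [one_mul] at h2
    exact h2.symm.trans hab
  rcases eq_one_or_succ_le (pos_of_mul_pos_left h0 (Nat.zero_le _)) ha with e | e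
  · exact Or.inl e
  rcases eq_one_or_succ_le (pos_of_mul_pos_right h0 (Nat.zero_le _)) hb with e' | e'
  · exact Or.inr e'
  have := Nat.mul_le_mul e e'
  nlinarith

theorem factor_modEq {G : Type u} [Group G] [Finite G] (P : Sylow p G) (N : Subgroup G) [N.Normal] :
    (Subgroup.normalizer ((P : Subgroup G) : Set G)).relIndex N ≡ 1 [MOD p] := by
  have h1 : Nat.card (Sylow p (G ⧸ N)) ≡ 1 [MOD p] := card_sylow_modEq_one p (G ⧸ N)
  have h2 : Nat.card (Sylow p G) ≡ 1 [MOD p] := card_sylow_modEq_one p G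
  rw [card_sylow_eq_mul_relIndex P N] at h2
  have h3 : Nat.card (Sylow p (G ⧸ N)) * (Subgroup.normalizer ((P : Subgroup G) : Set G)).relIndex N ≡
      1 * (Subgroup.normalizer ((P : Subgroup G) : Set G)).relIndex N [MOD p] := h1.mul_right _
  rw [one_mul] at h3
  exact h3.symm.trans h2

theorem factor_primePow {G : Type u} [Group G] [Finite G] (P : Sylow p G) (N : Subgroup G) [hN : N.Normal]
    (hcop : (Nat.card N).Coprime p)
    (hlt : (Subgroup.normalizer ((P : Subgroup G) : Set G)).relIndex N < p ^ 2) :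
    ∃ q k : ℕ, q.Prime ∧ (Subgroup.normalizer ((P : Subgroup G) : Set G)).relIndex N = q ^ k := by
  have hpp := (Fact.out : p.Prime)
  set L := Subgroup.normalizer ((P : Subgroup G) : Set G) with hL
  set r := L.relIndex N with hr
  have hr0 : 0 < r := Nat.pos_of_ne_zero Subgroup.index_ne_zero_of_finite
  by_cases h1 : r = 1
  · exact ⟨p, 0, hpp, by rw [h1, pow_zero]⟩
  obtain ⟨q, hq, hqr⟩ := Nat.exists_prime_and_dvd h1
  haveI : Fact q.Prime := ⟨hq⟩
  have hcP : (Nat.card (P : Subgroup G)).Coprime (Nat.card N) := by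
    obtain ⟨a, ha⟩ := P.isPGroup'.exists_card_eq
    rw [ha]; exact (hcop.pow_right a).symm
  haveI : Group.IsNilpotent (P : Subgroup G) := P.isPGroup'.isNilpotent
  have hsolv : Group.IsSolvable (P : Subgroup G) := inferInstance
  have hPN : (P : Subgroup G) ≤ Subgroup.normalizer (N : Set G) := by
    rw [Subgroup.normalizer_eq_top]; exact le_top
  set C := L ⊓ N with hC
  have hdisj : (P : Subgroup G) ⊓ N = ⊥ := Subgroup.inf_eq_bot_of_coprime hcP
  have hCc : ∀ x ∈ C, ∀ y ∈ (P : Subgroup G), x * y = y * x := fun x hx y hy =>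
    commute_of_mem_normalizer P N hdisj hx.2 hx.1 hy
  obtain ⟨R⟩ : Nonempty (Sylow q C) := inferInstance
  set U := (R : Subgroup C).map C.subtype with hU
  have hUC : U ≤ C := Subgroup.map_subtype_le _
  obtain ⟨Q, hUQ, hQP⟩ := coprime_le_invariant_sylow hPN hcP (Or.inl hsolv) (hUC.trans inf_le_right)
    (R.isPGroup'.map _) (p := q) (fun y hy => Subgroup.mem_normalizer_iff.mpr fun x => by
      constructor
      · intro hx
        rwa [← hCc x (hUC hx) y hy, mul_inv_cancel_right]
      · intro hx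
        have := hCc _ (hUC hx) y hy
        have e : x = y * x * y⁻¹ := by
          have e2 : y * x = y * (y * x * y⁻¹) := by rw [← this]; group
          exact mul_left_cancel e2
        rwa [← e] at hx)
  set Q' := (Q : Subgroup N).map N.subtype with hQ'
  have hQN : Q' ≤ N := Subgroup.map_subtype_le _
  -- fixed points of `P` on `Q'`
  letI : MulAction (P : Subgroup G) Q' :=
    { smul := fun a x => ⟨(a : G) * (x : G) * (a : G)⁻¹, (Subgroup.mem_normalizer_iff.mp (hQP a.2) _).mp x.2⟩
      one_smul := fun x => Subtype.ext (by show ((1 : G) * (x : G) * (1 : G)⁻¹) = x; group)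
      mul_smul := fun a b x => Subtype.ext (by
        show ((a * b : (P : Subgroup G)) : G) * (x : G) * ((a * b : (P : Subgroup G)) : G)⁻¹ =
          (a : G) * ((b : G) * (x : G) * (b : G)⁻¹) * (a : G)⁻¹
        rw [Subgroup.coe_mul]; group) }
  have hfix : Nat.card (MulAction.fixedPoints (P : Subgroup G) Q') = Nat.card ↥(Q' ⊓ C) := by
    refine Nat.card_congr ⟨fun x => ⟨(x.1 : G), x.1.2, ?_, hQN x.1.2⟩, fun x => ⟨⟨(x : G), x.2.1⟩, fun a => ?_⟩,
      fun x => rfl, fun x => rfl⟩
    · refine Subgroup.mem_normalizer_iff.mpr fun y => ?_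
      have hc : ∀ z ∈ (P : Subgroup G), (x.1 : G) * z * (x.1 : G)⁻¹ = z := fun z hz => by
        have h2 : z * (x.1 : G) * z⁻¹ = x.1 := congrArg Subtype.val (x.2 ⟨z, hz⟩)
        rw [← mul_inv_eq_iff_eq_mul.mp h2, mul_inv_cancel_right]
      constructor
      · intro hy; rw [hc y hy]; exact hy
      · intro hy
        have h2 := hc _ hy
        rw [mul_left_cancel (mul_right_cancel h2)] at hy
        exact hy
    · refine Subtype.ext ?_
      show (a : G) * (x : G) * (a : G)⁻¹ = x
      rw [← hCc x x.2.2 a a.2, mul_inv_cancel_right]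
  have hQC : Q' ⊓ C = U := by
    refine le_antisymm ?_ (le_inf hUQ hUC)
    have hp' : IsPGroup q ↥((Q' ⊓ C).subgroupOf C) :=
      ((Q.isPGroup'.map N.subtype).to_le inf_le_left).comap_of_injective C.subtype C.subtype_injective
    have e := R.3 hp' (fun x hx => Subgroup.mem_subgroupOf.mpr ⟨hUQ ⟨x, hx, rfl⟩, x.2⟩)
    intro x hx
    refine ⟨⟨x, hx.2⟩, ?_, rfl⟩
    show (⟨x, hx.2⟩ : C) ∈ (R : Subgroup C)
    rw [← e]; exact hx
  have hmod := P.isPGroup'.card_modEq_card_fixedPoints Q'
  rw [hfix, hQC, hQ', hU, Subgroup.card_map_of_injective N.subtype_injective,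
    Subgroup.card_map_of_injective C.subtype_injective, Q.card_eq_multiplicity, R.card_eq_multiplicity] at hmod
  have hcard : Nat.card C * r = Nat.card N := by
    rw [hr, ← Subgroup.inf_relIndex_right L N]
    show Nat.card C * (C.subgroupOf N).index = Nat.card N
    rw [← Nat.card_congr (Subgroup.subgroupOfEquivOfLe (inf_le_right : C ≤ N)).toEquiv]
    exact Subgroup.card_mul_index _
  have hv : (Nat.card N).factorization q = (Nat.card C).factorization q + r.factorization q := by
    rw [← hcard, Nat.factorization_mul Nat.card_pos.ne' hr0.ne', Finsupp.add_apply]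
  have hqp : q ≠ p := by
    rintro rfl
    exact hpp.one_lt.ne' (Nat.dvd_one.mp (hcop ▸ Nat.dvd_gcd (hqr.trans ⟨_, by rw [← hcard, mul_comm]⟩) dvd_rfl))
  have hm : q ^ r.factorization q ≡ 1 [MOD p] := by
    rw [hv, pow_add] at hmod
    have h2 : q ^ (Nat.card C).factorization q * q ^ r.factorization q ≡
        q ^ (Nat.card C).factorization q * 1 [MOD p] := by rw [mul_one]; exact hmod
    exact Nat.ModEq.cancel_left_of_coprime
      (((Nat.coprime_primes hpp hq).mpr (Ne.symm hqp)).pow_right _) h2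
  obtain ⟨b, hb⟩ := Nat.ordProj_dvd r q
  rcases eq_one_or_eq_one (b := b) (by rw [← hb]; exact hr0) (by rw [← hb]; exact hlt) hm
    (by rw [← hb]; exact factor_modEq P N) with e | e
  · exfalso
    have : 0 < r.factorization q := hq.factorization_pos_of_dvd hr0.ne' hqr
    exact (Nat.one_lt_pow this.ne' hq.one_lt).ne' e
  · exact ⟨q, r.factorization q, hq, by rw [e, mul_one] at hb; exact hb⟩

end CfsgLib.FewSylow
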