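import Cfsg.Agent.Lib.GW.Conseq.Diag
import Cfsg.Agent.Lib.AlmostCyclic.PSLFacts
import Cfsg.Agent.Lib.KFactThree.Basic
import Cfsg.Agent.Lib.SmallSylow.Apply
import Cfsg.Agent.S0060
import Cfsg.Agent.S4503
import Cfsg.Agent.S4504
import Cfsg.Agent.S4729

/-!
A simple group whose number of Sylow `p`-subgroups is a prime power below `p²`.

Blueprint: `blueprint/S4339.md`.
-/

set_option autoImplicit false
set_option linter.unusedSectionVars false
set_option linter.style.haveILetI false

universe u

namespace CfsgLib.FewSylow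

open Cfsg Subgroup CfsgLib.Blocks CfsgLib.CharTheory

variable {p : ℕ} [Fact p.Prime] {G : Type u} [Group G] [Finite G] [IsSimpleGroup G]

theorem not_solvable (hG : ¬ IsMulCommutative G) : ¬ Group.IsSolvable G := fun _ =>
  hG ⟨⟨fun a b => IsSimpleGroup.comm_iff_isSolvable.mpr inferInstance a b⟩⟩

theorem sylow_not_normal (hG : ¬ IsMulCommutative G) (hdvd : p ∣ Nat.card G) (P : Sylow p G) :
    ¬ (P : Subgroup G).Normal := fun h => by
  rcases h.eq_bot_or_eq_top with e | e
  · exact P.ne_bot_of_dvd_card hdvd e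
  · haveI : Group.IsNilpotent (P : Subgroup G) := P.isPGroup'.isNilpotent
    refine not_solvable hG ?_
    rw [e] at *
    haveI : Group.IsSolvable (⊤ : Subgroup G) := inferInstance
    exact Group.isSolvable_of_surjective (f := (⊤ : Subgroup G).subtype) fun g => ⟨⟨g, trivial⟩, rfl⟩

/-- Few Sylow subgroups in a simple group have prime order. -/
theorem card_sylow_prime (hG : ¬ IsMulCommutative G) (hdvd : p ∣ Nat.card G)
    (hn : Nat.card (Sylow p G) < p ^ 2) (P : Sylow p G) : Nat.card P = p := by
  have hpp := (Fact.out : p.Prime)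
  have hker : (MulAction.toPermHom G (Sylow p G)).ker = ⊥ := by
    refine ((inferInstance : (MulAction.toPermHom G (Sylow p G)).ker.Normal).eq_bot_or_eq_top).resolve_right
      fun e => sylow_not_normal hG hdvd P (Subgroup.normalizer_eq_top_iff.mp (top_le_iff.mp fun g _ => ?_))
    refine Sylow.smul_eq_iff_mem_normalizer.mp ?_
    have h2 : MulAction.toPermHom G (Sylow p G) g = 1 := MonoidHom.mem_ker.mp (e ▸ Subgroup.mem_top g)
    exact Equiv.ext_iff.mp h2 P
  have hst : ∀ R : Sylow p G, Nat.card (MulAction.orbit (P : Subgroup G) R) = 1 ∨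
      Nat.card (MulAction.orbit (P : Subgroup G) R) = p := fun R => by
    obtain ⟨j, hj⟩ := P.isPGroup'.card_orbit R
    have hle : Nat.card (MulAction.orbit (P : Subgroup G) R) < p ^ 2 :=
      lt_of_le_of_lt (Finite.card_subtype_le _) hn
    rw [hj] at hle ⊢
    have : j < 2 := (Nat.pow_lt_pow_iff_right hpp.one_lt).mp hle
    interval_cases j <;> simp
  have hidx : ∀ R : Sylow p G, (MulAction.stabilizer (P : Subgroup G) R).index = 1 ∨
      (MulAction.stabilizer (P : Subgroup G) R).index = p := fun R => by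
    rw [MulAction.index_stabilizer]; exact hst R
  have hab : IsMulCommutative (P : Subgroup G) := by
    refine ⟨⟨fun a b => ?_⟩⟩
    have hfix : ∀ R : Sylow p G, a * b * a⁻¹ * b⁻¹ ∈ MulAction.stabilizer (P : Subgroup G) R := fun R => by
      rcases hidx R with e | e
      · rw [Subgroup.index_eq_one.mp e]; exact Subgroup.mem_top _
      · obtain ⟨a', ha'⟩ := P.isPGroup'.exists_card_eq
        haveI : Finite (P : Subgroup G) := inferInstance
        set S := MulAction.stabilizer (P : Subgroup G) R
        have hnor : S.Normal := Subgroup.normal_of_index_eq_minFac_card (by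
          rw [ha', e, Nat.pow_minFac, hpp.minFac_eq]
          rintro rfl
          rw [pow_zero] at ha'
          have h2 := S.index_dvd_card
          rw [e, ha'] at h2
          exact hpp.not_dvd_one h2)
        haveI := hnor
        haveI : IsCyclic ((P : Subgroup G) ⧸ S) :=
          isCyclic_of_prime_card (p := p) (by rw [← Subgroup.index_eq_card]; exact e)
        letI := IsCyclic.commGroup (α := (P : Subgroup G) ⧸ S)
        refine (QuotientGroup.eq_one_iff _).mp ?_
        show (QuotientGroup.mk' S) (a * b * a⁻¹ * b⁻¹) = 1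
        rw [map_mul, map_mul, map_mul, map_inv, map_inv, mul_right_comm ((QuotientGroup.mk' S) a),
          mul_inv_cancel, one_mul, mul_inv_cancel]
    have h1 : ((a * b * a⁻¹ * b⁻¹ : (P : Subgroup G)) : G) = 1 := by
      rw [← Subgroup.mem_bot, ← hker, MonoidHom.mem_ker]
      exact Equiv.ext fun R => MulAction.mem_stabilizer_iff.mp (hfix R)
    have h2 : a * b * a⁻¹ * b⁻¹ = 1 := Subtype.ext h1
    exact mul_inv_eq_iff_eq_mul.mp (mul_inv_eq_one.mp h2)
  have hcore : pCore p G = ⊥ := by
    refine ((inferInstance : (pCore p G).Normal).eq_bot_or_eq_top).resolve_right fun e => ?_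
    have hp' : IsPGroup p G := by
      have h2 := CfsgLib.isPGroup_pCore (G := G) p
      rw [e] at h2
      exact h2.of_equiv Subgroup.topEquiv
    haveI := hp'.isNilpotent
    exact not_solvable hG inferInstance
  obtain ⟨g, hg⟩ := Cfsg.Agent.S0060.result p P hab hcore
  have hbot : MulAction.stabilizer (P : Subgroup G) (g • P) = ⊥ := by
    refine (Subgroup.eq_bot_iff_forall _).mpr fun x hx => Subtype.ext ?_
    have hx' : (x : G) • (g • P) = g • P := MulAction.mem_stabilizer_iff.mp hx
    have h2 : (x : G) ∈ (P : Subgroup G) ⊓ Subgroup.normalizer (((g • P : Sylow p G) : Subgroup G) : Set G) :=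
      ⟨x.2, Sylow.smul_eq_iff_mem_normalizer.mp hx'⟩
    have h3 : (x : G) ∈ (P : Subgroup G) ⊓ ((g • P : Sylow p G) : Subgroup G) :=
      (SetLike.ext_iff.mp (P.isPGroup'.inf_normalizer_sylow (g • P)) _).mp h2
    rw [Sylow.coe_subgroup_smul, hg] at h3
    exact Subgroup.mem_bot.mp h3
  have hcard : Nat.card P ≠ 1 := fun h1 => P.ne_bot_of_dvd_card hdvd (Subgroup.card_eq_one.mp h1)
  rcases hidx (g • P) with e | e <;> rw [hbot, Subgroup.index_bot] at e
  · exact absurd e hcard
  · exact e

/-- A simple group with a prime power number below `p²` of Sylow `p`-subgroups: `p` is a Mersenne prime. -/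
theorem mersenne (hG : ¬ IsMulCommutative G) (hdvd : p ∣ Nat.card G) (hn : Nat.card (Sylow p G) < p ^ 2)
    {q k : ℕ} (hq : q.Prime) (hqk : Nat.card (Sylow p G) = q ^ k) : 3 < p ∧ ∃ k : ℕ, p + 1 = 2 ^ k := by
  classical
  haveI : Fintype G := Fintype.ofFinite G
  have hpp := (Fact.out : p.Prime)
  obtain ⟨P⟩ : Nonempty (Sylow p G) := inferInstance
  have hP := card_sylow_prime hG hdvd hn P
  have hns := not_solvable hG
  have hperf := CfsgLib.KFactThree.commutator_top hG
  have hodd : p ≠ 2 := by
    rintro rfl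
    refine GWConseq.not_cyclic_sylow hns P ?_
    exact isCyclic_of_prime_card hP
  have he2 := SmallSylow.two_le_inIdx hperf P hP
  obtain ⟨M, hM⟩ := CfsgLib.ZStar.exists_isPModular hpp
  obtain ⟨X, Y, δ, σ, D⟩ := SmallSylow.exists_data (G := G) hM hodd P hP
  set e := SmallSylow.inIdx P with he
  have hYne : Y.Nonempty := by
    rw [← Finset.card_pos]
    rcases Nat.eq_zero_or_pos Y.card with h0 | h0
    · have := D.cardY; rw [h0, zero_mul] at this; have := hpp.two_le; omega
    · exact h0
  have hep : e ∣ p - 1 := ⟨Y.card, by rw [← D.cardY, mul_comm]⟩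
  have hele : e ≤ p - 1 := Nat.le_of_dvd (by have := hpp.two_le; omega) hep
  have h1mem : oneIrr G ∈ principalBlock M G := oneIrr_mem hM
  have hdeg1 : charDegree (oneIrr G : G → ℂ) = 1 := Nat.cast_injective (R := ℂ) (by
    rw [irr_charDegree_cast, Nat.cast_one]; rfl)
  obtain ⟨χ, hχB, hχ1, hχq⟩ : ∃ χ : IrrCharacter G, (χ ∈ X ∨ χ ∈ Y) ∧ χ ≠ oneIrr G ∧
      ¬ q ∣ charDegree (χ : G → ℂ) := by
    by_contra hcon
    push Not at hcon
    obtain ⟨η, hη⟩ := hYne
    have hrel : (∑ χ ∈ X, δ χ * (charDegree (χ : G → ℂ) : ℤ)) + σ * (charDegree (η : G → ℂ) : ℤ) = 0 := by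
      have h := D.relation η hη 1 (by rw [orderOf_one]; exact hpp.not_dvd_one)
      simp only [← irr_charDegree_cast] at h
      exact_mod_cast h
    haveI : Fact q.Prime := ⟨hq⟩
    have h0 : ((∑ χ ∈ X, δ χ * (charDegree (χ : G → ℂ) : ℤ)) + σ * (charDegree (η : G → ℂ) : ℤ) : ZMod q) = 0 := by
      exact_mod_cast congrArg (fun z : ℤ => (z : ZMod q)) hrel
    have hz : ∀ χ : IrrCharacter G, (χ ∈ X ∨ χ ∈ Y) → χ ≠ oneIrr G → (charDegree (χ : G → ℂ) : ZMod q) = 0 :=
      fun χ h1 h2 => (ZMod.natCast_eq_zero_iff _ _).mpr (hcon χ h1 h2)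
    rcases (D.union _).mp h1mem with h1X | h1Y
    · push_cast at h0
      rw [Finset.sum_eq_single_of_mem _ h1X (fun b hb hb1 => by rw [hz b (Or.inl hb) hb1, mul_zero])] at h0
      have hη1 : η ≠ oneIrr G := fun e => Finset.disjoint_left.mp D.disj h1X (e ▸ hη)
      rw [hz η (Or.inr hη) hη1, mul_zero, add_zero, hdeg1] at h0
      rcases D.hδ _ h1X with e1 | e1 <;> simp [e1] at h0
    · have hηd : charDegree (η : G → ℂ) = 1 := by
        rw [← hdeg1]
        apply Nat.cast_injective (R := ℂ)
        rw [irr_charDegree_cast, irr_charDegree_cast]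
        exact D.agree η hη _ h1Y 1 (by rw [orderOf_one]; exact hpp.not_dvd_one)
      push_cast at h0
      rw [Finset.sum_eq_zero (fun b hb => by
          have hb1 : b ≠ oneIrr G := fun e => Finset.disjoint_left.mp D.disj (e ▸ hb) h1Y
          rw [hz b (Or.inl hb) hb1, mul_zero]),
        zero_add, hηd] at h0
      rcases D.hσ with e1 | e1 <;> simp [e1] at h0
  set u := charDegree (χ : G → ℂ) with hu
  have hu2 : 2 ≤ u := CfsgLib.KFactThree.two_le_degree hG hχ1
  have hue : u ∣ e := by
    have h : u ∣ e * Nat.card (Sylow p G) := hχB.elim (D.dvdX χ) (D.dvdY χ)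
    rw [hqk] at h
    exact (Nat.Coprime.pow_right k ((hq.coprime_iff_not_dvd.mpr hχq).symm)).dvd_of_dvd_mul_right h
  have hule : u ≤ e := Nat.le_of_dvd (by omega) hue
  have hpz : (0 : ℤ) < p := by exact_mod_cast hpp.pos
  have hueq : u = e := by
    have key : ∀ z : ℤ, (u : ℤ) ≡ z [ZMOD p] → ∀ a b : ℤ, (u : ℤ) - z = a → -b < a → a < b → b ≤ p → a = 0 := by
      intro z hz a b ha h1 h2 h3
      exact Int.eq_zero_of_abs_lt_dvd (m := (p : ℤ)) (ha ▸ Int.ModEq.dvd hz.symm) (abs_lt.mpr ⟨by linarith, by linarith⟩)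
    rcases hχB with hX | hY
    · have hd := D.degX χ hX
      rcases D.hδ χ hX with e1 | e1 <;> rw [e1] at hd
      · have := key 1 hd _ p rfl (by omega) (by omega) le_rfl
        omega
      · have hd' : (u : ℤ) ≡ (p : ℤ) - 1 [ZMOD p] := hd.trans (Int.modEq_iff_dvd.mpr ⟨1, by ring⟩)
        have := key _ hd' _ p rfl (by omega) (by omega) le_rfl
        omega
    · have hd := D.degY χ hY
      rcases D.hσ with e1 | e1 <;> rw [e1] at hd
      · have hd' : (u : ℤ) ≡ (p : ℤ) - e [ZMOD p] := hd.trans (Int.modEq_iff_dvd.mpr ⟨1, by rw [he]; ring⟩)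
        have h2 := key _ hd' _ p rfl (by omega) (by omega) le_rfl
        have hup : u ∣ p := by
          have h3 : p = u + e := by omega
          rw [h3]; exact dvd_add dvd_rfl hue
        rcases hpp.eq_one_or_self_of_dvd u hup with h4 | h4 <;> omega
      · have hd' : (u : ℤ) ≡ (e : ℤ) [ZMOD p] := by rw [he]; simpa using hd
        have := key _ hd' _ p rfl (by omega) (by omega) le_rfl
        omega
  have hfaith : ∀ g : G, (χ : G → ℂ) g = (χ : G → ℂ) 1 → g = 1 :=
    fun g hg => CfsgLib.KFactThree.faithful hχ1 hg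
  have hsq : ¬ p ^ 2 ∣ Nat.card G := fun h => by
    have h2 := P.pow_dvd_card_of_pow_dvd_card h
    rw [show Nat.card (P : Subgroup G) = p from hP] at h2
    have := Nat.le_of_dvd hpp.pos h2
    nlinarith [hpp.two_le]
  have hnn : ∀ H : Subgroup G, H.Normal → Nat.card H ≠ p := fun H hH h => by
    rcases hH.eq_bot_or_eq_top with e' | e' <;> rw [e'] at h
    · rw [Subgroup.card_bot] at h; exact hpp.ne_one h.symm
    · rw [Subgroup.card_top] at h
      haveI := isCyclic_of_prime_card h
      exact hG inferInstance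
  have hlow := Cfsg.Agent.S4503.result p hpp hdvd hsq hnn _ (isCharacter_of_irr χ.2) hfaith
  rw [← hu, hueq] at hlow
  have hχb : χ ∈ principalBlock M G := (D.union χ).mpr hχB
  have hCp := Cfsg.Agent.S4729.result p M hM hperf P χ hχb hfaith (by rw [← hu, hueq]; omega)
  have hC : Subgroup.centralizer ((P : Subgroup G) : Set G) = (P : Subgroup G) := by
    haveI : IsCyclic (P : Subgroup G) := isCyclic_of_prime_card hP
    exact P.3 hCp (Subgroup.le_centralizer (P : Subgroup G))
  have hcG : Nat.card G = p * e * Nat.card (Sylow p G) := by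
    rw [SmallSylow.card_eq_mul P, hC, show Nat.card (P : Subgroup G) = p from hP]
  obtain ⟨t, ht⟩ := hep
  have ht2 : t = 1 ∨ t = 2 := by
    have : t < 3 := by
      by_contra h
      have := Nat.mul_le_mul_left e (show 3 ≤ t by omega)
      omega
    interval_cases t <;> omega
  rcases ht2 with rfl | rfl
  · exfalso
    rw [mul_one] at ht
    haveI : Fact (Nat.Prime 2) := ⟨Nat.prime_two⟩
    have hqodd : q ≠ 2 := by
      rintro rfl
      refine hχq ?_
      rw [hueq, ← ht]
      obtain ⟨j, hj⟩ := hpp.odd_of_ne_two hodd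
      exact ⟨j, by omega⟩
    set L := Subgroup.normalizer ((P : Subgroup G) : Set G) with hL
    have hidx : ¬ 2 ∣ L.index := by
      rw [show L.index = Nat.card (Sylow p G) from P.card_eq_index_normalizer.symm, hqk]
      exact fun h => hqodd ((Nat.prime_dvd_prime_iff_eq Nat.prime_two hq).mp (Nat.prime_two.dvd_of_dvd_pow h)).symm
    obtain ⟨S⟩ : Nonempty (Sylow 2 L) := inferInstance
    set S' := (S : Subgroup L).map L.subtype with hS'
    obtain ⟨T, hT⟩ := (S.isPGroup'.map L.subtype).exists_le_sylow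
    have hTS : (T : Subgroup G) = S' := by
      refine (Subgroup.eq_of_le_of_card_ge hT ?_).symm
      rw [Subgroup.card_map_of_injective L.subtype_injective, S.card_eq_multiplicity, T.card_eq_multiplicity,
        ← L.card_mul_index, Nat.factorization_mul Nat.card_pos.ne' Subgroup.index_ne_zero_of_finite,
        Finsupp.add_apply, Nat.factorization_eq_zero_of_not_dvd hidx, add_zero]
    haveI := DefectOne.isCyclic_mulAut (DefectOne.setup_sylow P hP) hP
    let φ : (S : Subgroup L) →* MulAut (P : Subgroup G) :=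
      (P : Subgroup G).normalizerMonoidHom.comp (S : Subgroup L).subtype
    have hφ : Function.Injective φ := by
      refine (injective_iff_map_eq_one _).mpr fun x hx => ?_
      have h2 : (x : L) ∈ (P : Subgroup G).normalizerMonoidHom.ker := hx
      rw [Subgroup.normalizerMonoidHom_ker, Subgroup.mem_subgroupOf, hC] at h2
      obtain ⟨a, ha⟩ := S.isPGroup'.exists_card_eq
      have h3 : orderOf x ∣ 2 ^ a := ha ▸ orderOf_dvd_natCard x
      have h4 : orderOf x ∣ p := by
        rw [← Subgroup.orderOf_coe, ← Subgroup.orderOf_coe, ← (show Nat.card (P : Subgroup G) = p from hP)]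
        exact Subgroup.orderOf_dvd_natCard _ h2
      exact orderOf_eq_one_iff.mp (Nat.eq_one_of_dvd_coprimes
        (Nat.Coprime.pow_left a ((Nat.coprime_primes Nat.prime_two hpp).mpr (Ne.symm hodd))) h3 h4)
    haveI hScyc : IsCyclic (S : Subgroup L) := isCyclic_of_injective φ hφ
    refine GWConseq.not_cyclic_sylow hns T ?_
    rw [hTS]
    exact ((S : Subgroup L).equivMapOfInjective L.subtype L.subtype_injective).isCyclic.mp hScyc
  · have hpe : 2 * e + 1 = p := by have := hpp.two_le; omega
    have hiso := Cfsg.Agent.S4504.result p hpp hdvd hsq hnn _ (isCharacter_of_irr χ.2) hfaith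
      (by rw [← hu, hueq]; exact hpe)
    have hZ : Subgroup.center G = ⊥ := PrimeDegrees.center_bot (by
      by_contra h; push Not at h; exact hG ⟨⟨h⟩⟩)
    obtain ⟨eq⟩ := hiso
    have hcard := CfsgLib.AlmostCyclic.card_psl_two (p := p) hodd
    rw [← Nat.card_congr eq.toEquiv, ← Subgroup.index_eq_card, hZ, Subgroup.index_bot, hcG,
      show p - 1 = 2 * e by omega] at hcard
    have hn1 : Nat.card (Sylow p G) = p + 1 := by
      have h2 : (2 * (p * e)) * Nat.card (Sylow p G) = (2 * (p * e)) * (p + 1) := by linarith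
      exact Nat.eq_of_mul_eq_mul_left (Nat.mul_pos two_pos (Nat.mul_pos hpp.pos (by omega))) h2
    refine ⟨by omega, ?_⟩
    have hk0 : k ≠ 0 := fun h0 => by rw [h0, pow_zero] at hqk; have := hpp.two_le; omega
    obtain rfl : q = 2 := by
      have h2 : 2 ∣ q ^ k := by
        rw [← hqk, hn1]; exact ⟨e + 1, by omega⟩
      exact ((Nat.prime_dvd_prime_iff_eq Nat.prime_two hq).mp (Nat.prime_two.dvd_of_dvd_pow h2)).symm
    exact ⟨k, hn1 ▸ hqk⟩

end CfsgLib.FewSylow
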