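import Cfsg.Agent.S3744
import Cfsg.Agent.S4303
import Cfsg.Agent.Lib.PLocal.SolvableSeparable
import Cfsg.Agent.Lib.SmallDegrees.BelowPrime
import Cfsg.Agent.Lib.FewSylow.Factor
import Cfsg.Agent.Lib.FewSylow.Simple

/-!
Fewer than `p²` Sylow `p`-subgroups and `p`-solvability.

Blueprint: `blueprint/S4339.md`.
-/

set_option autoImplicit false
set_option linter.unusedSectionVars false
set_option linter.style.haveILetI false

universe u

namespace CfsgLib.FewSylow

open Cfsg Subgroup

variable {p : ℕ} [Fact p.Prime]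

theorem exists_layer {G : Type u} [Group G] [Finite G] [Nontrivial G] (h : IsPSolvable p G) :
    ∃ N : Subgroup G, N.Normal ∧ N ≠ ⊥ ∧ ((∃ m : ℕ, Nat.card N = p ^ m) ∨ (Nat.card N).Coprime p) := by
  obtain ⟨n, H, h0, h1, -, hn, hidx⟩ := h
  by_contra hcon
  push Not at hcon
  have hall : ∀ i, H i = ⊥ := fun i => by
    induction i using Fin.induction with
    | zero => exact h0
    | succ j ih =>
      by_contra hj
      obtain ⟨h2, h3⟩ := hcon _ (hn j.succ) hj
      have := hidx j
      rw [ih, Subgroup.relIndex_bot_left] at this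
      rcases this with ⟨m, hm⟩ | hm
      · exact h2 m hm
      · exact h3 hm
  exact top_ne_bot (h1.symm.trans (hall _))

theorem primePow : ∀ (m : ℕ) (G : Type u) [Group G] [Finite G], Nat.card G = m → IsPSolvable p G →
    Nat.card (Sylow p G) < p ^ 2 → ∃ q k : ℕ, q.Prime ∧ Nat.card (Sylow p G) = q ^ k := by
  intro m
  induction m using Nat.strong_induction_on with
  | _ m ih =>
    intro G _ _ hm hsol hlt
    have hpp := (Fact.out : p.Prime)
    obtain ⟨P⟩ : Nonempty (Sylow p G) := inferInstance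
    rcases subsingleton_or_nontrivial G with hG | hG
    · refine ⟨p, 0, hpp, ?_⟩
      rw [P.card_eq_index_normalizer, pow_zero, Subgroup.index_eq_one]
      exact Subsingleton.elim _ _
    obtain ⟨N, hN, hN1, hcase⟩ := exists_layer hsol
    haveI := hN
    have hlt' : Nat.card (G ⧸ N) < m := by
      have h := N.card_mul_index
      rw [Subgroup.index_eq_card] at h
      have h2 := N.one_lt_card_iff_ne_bot.mpr hN1
      have := Nat.mul_le_mul_right (Nat.card (G ⧸ N)) (show 2 ≤ Nat.card N by omega)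
      have := Nat.card_pos (α := G ⧸ N)
      omega
    have hmul := card_sylow_eq_mul_relIndex P N
    set r := (Subgroup.normalizer ((P : Subgroup G) : Set G)).relIndex N with hr
    set a := Nat.card (Sylow p (G ⧸ N))
    have hr0 : 0 < r := Nat.pos_of_ne_zero Subgroup.index_ne_zero_of_finite
    have ha0 : 0 < a := Nat.card_pos
    have hale : a ≤ Nat.card (Sylow p G) := hmul ▸ Nat.le_mul_of_pos_right a hr0
    obtain ⟨q, k, hq, hqk⟩ := ih _ hlt' (G ⧸ N) rfl (Cfsg.Agent.S3744.isPSolvable_quotient hsol N)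
      (lt_of_le_of_lt hale hlt)
    rcases eq_one_or_eq_one (a := a) (b := r) (Nat.mul_pos ha0 hr0) (hmul ▸ hlt) (card_sylow_modEq_one p (G ⧸ N))
      (hmul ▸ card_sylow_modEq_one p G) with e | e
    · rcases hcase with ⟨j, hj⟩ | hcop
      · refine ⟨p, 0, hpp, ?_⟩
        rw [hmul, e, one_mul, pow_zero, hr, Subgroup.relIndex_eq_one]
        exact ((IsPGroup.of_card hj).le_sylow_of_normal P).trans Subgroup.le_normalizer
      · obtain ⟨q', k', hq', hk'⟩ := factor_primePow P N hcop (by rw [hmul, e, one_mul] at hlt; exact hlt)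
        exact ⟨q', k', hq', by rw [hmul, e, one_mul, hr, hk']⟩
    · exact ⟨q, k, hq, by rw [hmul, e, mul_one]; exact hqk⟩

theorem pSolvable (hp : ¬ (3 < p ∧ ∃ k : ℕ, p + 1 = 2 ^ k)) : ∀ (m : ℕ) (G : Type u) [Group G] [Finite G],
    Nat.card G = m → Nat.card (Sylow p G) < p ^ 2 →
    (∃ q k : ℕ, q.Prime ∧ Nat.card (Sylow p G) = q ^ k) → IsPSolvable p G := by
  intro m
  induction m using Nat.strong_induction_on with
  | _ m ih =>
    intro G _ _ hm hlt hpow
    have hpp := (Fact.out : p.Prime)
    obtain ⟨q, k, hq, hqk⟩ := hpow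
    by_cases hdvd : p ∣ Nat.card G
    swap
    · exact SmallDegrees.isPSolvable_of_not_dvd hpp hdvd
    obtain ⟨P⟩ : Nonempty (Sylow p G) := inferInstance
    by_cases hnor : ∃ N : Subgroup G, N.Normal ∧ N ≠ ⊥ ∧ N ≠ ⊤
    · obtain ⟨M, ⟨hMn, hM1, hM2⟩, hmin⟩ :=
        (Set.toFinite {N : Subgroup G | N.Normal ∧ N ≠ ⊥ ∧ N ≠ ⊤}).exists_minimal hnor
      haveI := hMn
      have hsub : ∀ (n' : ℕ), n' ∣ Nat.card (Sylow p G) → n' < p ^ 2 ∧ ∃ q k : ℕ, q.Prime ∧ n' = q ^ k := by
        intro n' hd
        refine ⟨lt_of_le_of_lt (Nat.le_of_dvd Nat.card_pos hd) hlt, ?_⟩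
        rw [hqk] at hd
        obtain ⟨j, -, hj⟩ := (Nat.dvd_prime_pow hq).mp hd
        exact ⟨q, j, hq, hj⟩
      have hcardM : Nat.card M < m := by
        rw [← hm]
        exact lt_of_le_of_ne (M.card_le_card_group) fun e => hM2 (Subgroup.eq_top_of_card_eq M e)
      obtain ⟨hMlt, hMpow⟩ := hsub _ ⟨_, Cfsg.Agent.S4303.sylow_card_eq_mul P M⟩
      have hMsol := ih _ hcardM M rfl hMlt hMpow
      obtain ⟨hQlt, hQpow⟩ := hsub _ ⟨_, card_sylow_eq_mul_relIndex P M⟩
      have hcardQ : Nat.card (G ⧸ M) < m := by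
        have h := M.card_mul_index
        rw [Subgroup.index_eq_card] at h
        have h2 := M.one_lt_card_iff_ne_bot.mpr hM1
        have := Nat.mul_le_mul_right (Nat.card (G ⧸ M)) (show 2 ≤ Nat.card M by omega)
        have := Nat.card_pos (α := G ⧸ M)
        omega
      have hQsol := ih _ hcardQ (G ⧸ M) rfl hQlt hQpow
      haveI : Nontrivial M := (Subgroup.nontrivial_iff_ne_bot M).mpr hM1
      obtain ⟨K, hK, hK1, hKcase⟩ := exists_layer hMsol
      haveI := hK
      have hcoreM : ∀ C : Subgroup M, C.Characteristic → K ≤ C → C = ⊤ := fun C hC hKC => by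
        haveI := hC
        have h1 : (C.map M.subtype).Normal := inferInstance
        have h2 : C.map M.subtype ≠ ⊥ := fun e => hK1 (by
          rw [Subgroup.map_eq_bot_iff_of_injective _ M.subtype_injective] at e
          exact le_bot_iff.mp (e ▸ hKC))
        have h3 : C.map M.subtype ≤ M := Subgroup.map_subtype_le _
        have h4 := hmin (y := C.map M.subtype) ⟨h1, h2, fun e => hM2 (top_le_iff.mp (e ▸ h3))⟩ h3
        refine Subgroup.map_injective M.subtype_injective ?_
        rw [← MonoidHom.range_eq_map, Subgroup.range_subtype]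
        exact le_antisymm h3 h4
      refine CfsgLib.PLocal.isPSolvable_of_ker (QuotientGroup.mk' M) (QuotientGroup.mk'_surjective M) ?_ hQsol
      rw [QuotientGroup.ker_mk']
      rcases hKcase with ⟨j, hj⟩ | hcop
      · left
        have h := hcoreM (pCore p M) inferInstance (CfsgLib.le_pCore (IsPGroup.of_card hj))
        have h2 := CfsgLib.isPGroup_pCore (G := M) p
        rw [h] at h2
        obtain ⟨i, hi⟩ := h2.exists_card_eq
        exact ⟨i, by rw [← hi, Subgroup.card_top]⟩
      · right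
        have h := hcoreM (pPrimeCore p M) inferInstance (CfsgLib.le_pPrimeCore hcop)
        have h2 := CfsgLib.card_pPrimeCore_coprime (G := M) p
        rwa [h, Subgroup.card_top] at h2
    · push Not at hnor
      haveI : Nontrivial G := Finite.one_lt_card_iff_nontrivial.mp
        (lt_of_lt_of_le hpp.one_lt (Nat.le_of_dvd Nat.card_pos hdvd))
      haveI : IsSimpleGroup G := ⟨fun N hN => or_iff_not_imp_left.mpr fun h => hnor N hN h⟩
      by_cases hab : IsMulCommutative G
      · haveI : (P : Subgroup G).Normal := ⟨fun x hx g => by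
          rwa [show g * x = x * g from hab.is_comm.comm g x, mul_inv_cancel_right]⟩
        exact SmallDegrees.isPSolvable_of_normal_sylow P.isPGroup' P.not_dvd_index
      · exact absurd (mersenne hab hdvd hlt hq hqk) hp

theorem main {G : Type u} [Group G] [Finite G] (hp : ¬ (3 < p ∧ ∃ k : ℕ, p + 1 = 2 ^ k))
    (hn : Nat.card (Sylow p G) < p ^ 2) :
    IsPSolvable p G ↔ ∃ q k : ℕ, q.Prime ∧ Nat.card (Sylow p G) = q ^ k :=
  ⟨fun h => primePow _ G rfl h hn, fun h => pSolvable hp _ G rfl hn h⟩

end CfsgLib.FewSylow
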